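import Mathlib.RingTheory.Regular.RegularSequence
import Mathlib.RingTheory.Nakayama
import Mathlib.Tactic.LinearCombination

/-! Exchange lemma for regular sequences in Noetherian local rings: if `J` is generated by a
regular sequence and `L ≤ J` satisfies `L ⊓ m J ≤ m L`, then some regular sequence generating `J`
starts with generators of `L`. -/

namespace Groth.Agent.RegExch

open RingTheory.Sequence IsLocalRing

universe u

variable {A : Type u} [CommRing A]

theorem ofList_perm {l l' : List A} (h : l.Perm l') : Ideal.ofList l = Ideal.ofList l' :=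
  congrArg Ideal.span (Set.ext fun _ => h.mem_iff)

theorem mem_ofList_of_mem {l : List A} {a : A} (h : a ∈ l) : a ∈ Ideal.ofList l :=
  Ideal.subset_span h

/-- Replacing the last element by a unit multiple modulo the previous ones. -/
theorem replace_last {l : List A} {r x u : A} (hu : IsUnit u) (hx : x - u * r ∈ Ideal.ofList l)
    (h : IsWeaklyRegular A (l ++ [r])) :
    IsWeaklyRegular A (l ++ [x]) ∧ Ideal.ofList (l ++ [x]) = Ideal.ofList (l ++ [r]) := by
  rw [isWeaklyRegular_append_iff, isWeaklyRegular_singleton_iff] at h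
  refine ⟨?_, ?_⟩
  · rw [isWeaklyRegular_append_iff, isWeaklyRegular_singleton_iff]
    refine ⟨h.1, ?_⟩
    have key : ∀ z : A ⧸ (Ideal.ofList l • ⊤ : Submodule A A), x • z = (u * r) • z := by
      intro z
      obtain ⟨a, rfl⟩ := Submodule.Quotient.mk_surjective _ z
      rw [← Submodule.Quotient.mk_smul, ← Submodule.Quotient.mk_smul, Submodule.Quotient.eq, ← sub_smul]
      exact Submodule.smul_mem_smul hx Submodule.mem_top
    intro a b hab
    simp only [key] at hab
    obtain ⟨v, hv⟩ := hu.exists_left_inv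
    refine h.2 ?_
    have hab' := congrArg (fun z => v • z) hab
    simp only [smul_smul, ← mul_assoc, hv, one_mul] at hab'
    exact hab'
  · obtain ⟨v, hv⟩ := hu.exists_left_inv
    simp only [Ideal.ofList_append, Ideal.ofList_singleton]
    refine le_antisymm (sup_le le_sup_left ?_) (sup_le le_sup_left ?_) <;>
      rw [Ideal.span_singleton_le_iff_mem]
    · rw [show x = (x - u * r) + u * r by ring]
      exact add_mem (Submodule.mem_sup_left hx)
        (Submodule.mem_sup_right (Ideal.mul_mem_left _ _ (Ideal.mem_span_singleton_self r)))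
    · rw [show r = v * x - v * (x - u * r) by linear_combination (-r) * hv]
      exact sub_mem (Submodule.mem_sup_right (Ideal.mul_mem_left _ _ (Ideal.mem_span_singleton_self x)))
        (Submodule.mem_sup_left (Ideal.mul_mem_left _ _ hx))

variable [IsLocalRing A]

theorem exists_unit_coeff {J : Ideal A} : ∀ (rest : List A) (z : A), (∀ a ∈ rest, a ∈ J) →
    z ∈ Ideal.ofList rest → z ∉ maximalIdeal A * J →
    ∃ (l₁ : List A) (r : A) (l₂ : List A) (u : A), rest = l₁ ++ r :: l₂ ∧ IsUnit u ∧
      z - u * r ∈ Ideal.ofList (l₁ ++ l₂) := by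
  intro rest
  induction rest with
  | nil =>
    intro z _ hz hz'
    rw [Ideal.ofList_nil, Ideal.mem_bot] at hz
    exact absurd (hz ▸ zero_mem _) hz'
  | cons r t ih =>
    intro z hJ hz hz'
    rw [Ideal.ofList_cons] at hz
    obtain ⟨a, ha, w, hw, rfl⟩ := Submodule.mem_sup.1 hz
    obtain ⟨c, rfl⟩ := Ideal.mem_span_singleton'.1 ha
    by_cases hc : IsUnit c
    · exact ⟨[], r, t, c, rfl, hc, by simpa using hw⟩
    · have hcr : c * r ∈ maximalIdeal A * J :=
        Ideal.mul_mem_mul ((mem_maximalIdeal c).2 hc) (hJ r List.mem_cons_self)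
      obtain ⟨l₁, r', l₂, u, rfl, hu, hmem⟩ := ih w (fun a ha => hJ a (List.mem_cons_of_mem _ ha)) hw
        (fun h => hz' (add_mem hcr h))
      refine ⟨r :: l₁, r', l₂, u, rfl, hu, ?_⟩
      rw [List.cons_append, Ideal.ofList_cons, add_sub_assoc]
      exact add_mem (Submodule.mem_sup_left (Ideal.mul_mem_left _ _ (Ideal.mem_span_singleton_self r)))
        (Submodule.mem_sup_right hmem)

variable [IsNoetherianRing A]

/-- One exchange step. -/
theorem exchange {J : Ideal A} (hJ : J ≤ maximalIdeal A) {xs rest : List A} {x : A}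
    (h : IsWeaklyRegular A (xs ++ rest)) (hspan : Ideal.ofList (xs ++ rest) = J) (hx : x ∈ J)
    (hx' : x ∉ Ideal.ofList xs ⊔ maximalIdeal A * J) :
    ∃ rest' : List A, rest'.length + 1 = rest.length ∧ IsWeaklyRegular A (xs ++ x :: rest') ∧
      Ideal.ofList (xs ++ x :: rest') = J := by
  have hx₀ := hx
  rw [← hspan, Ideal.ofList_append] at hx
  obtain ⟨y, hy, z, hz, rfl⟩ := Submodule.mem_sup.1 hx
  obtain ⟨l₁, r, l₂, u, rfl, hu, hmem⟩ := exists_unit_coeff rest z
    (fun a ha => hspan ▸ mem_ofList_of_mem (List.mem_append_right _ ha)) hz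
    (fun h' => hx' (Submodule.add_mem_sup hy h'))
  have p1 : (xs ++ (l₁ ++ r :: l₂)).Perm ((xs ++ (l₁ ++ l₂)) ++ [r]) :=
    (List.Perm.append_left xs List.perm_middle).trans
      (List.perm_middle.trans (List.perm_append_singleton r (xs ++ (l₁ ++ l₂))).symm)
  have hsub : ∀ a ∈ xs ++ (l₁ ++ r :: l₂), a ∈ maximalIdeal A := fun a ha =>
    hJ (hspan ▸ mem_ofList_of_mem ha)
  obtain ⟨hw, he⟩ := replace_last (x := y + z) hu (by
      rw [Ideal.ofList_append, add_sub_assoc]
      exact Submodule.add_mem_sup hy hmem)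
    (isWeaklyRegular_of_perm_of_subset_maximalIdeal h p1 hsub)
  have p2 : ((xs ++ (l₁ ++ l₂)) ++ [y + z]).Perm (xs ++ (y + z) :: (l₁ ++ l₂)) :=
    (List.perm_append_singleton (y + z) (xs ++ (l₁ ++ l₂))).trans List.perm_middle.symm
  refine ⟨l₁ ++ l₂, by simp; omega, isWeaklyRegular_of_perm_of_subset_maximalIdeal hw p2 ?_, ?_⟩
  · intro a ha
    refine hJ ?_
    rw [← hspan, ofList_perm p1, ← he]
    exact mem_ofList_of_mem ha
  · rw [← ofList_perm p2, he, ← ofList_perm p1, hspan]

/-- If `J` is generated by a regular sequence and `T ⊆ J`, some regular sequence generating `J`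
starts with elements of `T` spanning `T` modulo `m J`. -/
theorem exists_adapted {J : Ideal A} {T : Set A} (hJ : J ≤ maximalIdeal A) (hT : ∀ a ∈ T, a ∈ J) :
    ∀ (n : ℕ) (xs rest : List A), rest.length = n → (∀ a ∈ xs, a ∈ T) →
      IsWeaklyRegular A (xs ++ rest) → Ideal.ofList (xs ++ rest) = J →
      ∃ xs' rest' : List A, (∀ a ∈ xs', a ∈ T) ∧ IsWeaklyRegular A (xs' ++ rest') ∧
        Ideal.ofList (xs' ++ rest') = J ∧ Ideal.span T ≤ Ideal.ofList xs' ⊔ maximalIdeal A * J := by
  intro n
  induction n using Nat.strong_induction_on with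
  | _ n ih =>
    intro xs rest hn hxs h hspan
    by_cases hle : T ⊆ ↑(Ideal.ofList xs ⊔ maximalIdeal A * J)
    · exact ⟨xs, rest, hxs, h, hspan, Ideal.span_le.2 hle⟩
    obtain ⟨x, hxT, hx'⟩ := Set.not_subset.1 hle
    obtain ⟨rest', hlen, h', hspan'⟩ := exchange hJ h hspan (hT x hxT) hx'
    refine ih rest'.length (by omega) (xs ++ [x]) rest' rfl ?_ (by simpa using h') (by simpa using hspan')
    intro a ha
    rcases List.mem_append.1 ha with ha | ha
    · exact hxs a ha
    · exact List.mem_singleton.1 ha ▸ hxT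

/-- If `J ≠ ⊤` is generated by a regular sequence, any generating set contains the entries of a
regular sequence generating `J`. -/
theorem exists_regular_subset {J : Ideal A} (hJ : J ≠ ⊤) (T : Set A) (hT : Ideal.span T = J)
    (hreg : ∃ rs : List A, Ideal.ofList rs = J ∧ IsWeaklyRegular A rs) :
    ∃ xs : List A, (∀ a ∈ xs, a ∈ T) ∧ Ideal.ofList xs = J ∧ IsWeaklyRegular A xs := by
  obtain ⟨rs, hrs, hw⟩ := hreg
  obtain ⟨xs, rest, hxs, hw', hspan, hle⟩ := exists_adapted (le_maximalIdeal hJ)
    (fun a ha => hT ▸ Ideal.subset_span ha) rs.length [] rs rfl (by simp) hw hrs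
  refine ⟨xs, hxs, le_antisymm (hT ▸ Ideal.span_mono hxs) ?_,
    ((isWeaklyRegular_append_iff A xs rest).1 hw').1⟩
  rw [hT] at hle
  exact Submodule.le_of_le_smul_of_le_jacobson_bot J.fg_of_isNoetherianRing
    (maximalIdeal_le_jacobson ⊥) hle

/-- If moreover `L ⊓ m J ≤ m L`, those elements generate `L`. -/
theorem exists_split {J L : Ideal A} (hJ : J ≠ ⊤) (hL : L ≤ J)
    (hmL : L ⊓ maximalIdeal A * J ≤ maximalIdeal A * L)
    (hreg : ∃ rs : List A, Ideal.ofList rs = J ∧ IsWeaklyRegular A rs) :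
    ∃ xs rest : List A, Ideal.ofList xs = L ∧ Ideal.ofList (xs ++ rest) = J ∧
      IsWeaklyRegular A (xs ++ rest) := by
  obtain ⟨rs, hrs, hw⟩ := hreg
  obtain ⟨xs, rest, hxs, hw', hspan, hle⟩ := exists_adapted (T := (L : Set A)) (le_maximalIdeal hJ)
    (fun a ha => hL ha) rs.length [] rs rfl (by simp) hw hrs
  rw [Ideal.span_eq] at hle
  refine ⟨xs, rest, le_antisymm (Ideal.span_le.2 hxs) ?_, hspan, hw'⟩
  refine Submodule.le_of_le_smul_of_le_jacobson_bot L.fg_of_isNoetherianRing
    (maximalIdeal_le_jacobson ⊥) ?_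
  intro a ha
  obtain ⟨y, hy, w, hw, rfl⟩ := Submodule.mem_sup.1 (hle ha)
  refine Submodule.add_mem_sup hy (hmL ⟨?_, hw⟩)
  simpa using sub_mem ha (show y ∈ L from Ideal.span_le.2 hxs hy)

end Groth.Agent.RegExch
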