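import Mathlib
import Groth.Prelude.Def_DRing2
import Groth.Agent.RegExch.Basic
import Groth.Agent.Synt29.TorSyzygy
import Groth.Agent.Synt29.FibrePd
import Groth.Agent.RegLoc6.Serre
import Groth.Agent.TorBridge.LES
import Groth.Agent.LocalCrit.Flatness

/-! Tor dimension relative to a flat local map with regular closed fibre. -/

set_option autoImplicit false
set_option linter.style.haveILetI false
set_option backward.isDefEq.respectTransparency.types false

universe u

open CategoryTheory IsLocalRing RingTheory.Sequence Groth.Agent.Synt29 Groth.Agent.RegLoc6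

open scoped Pointwise

namespace Groth.Agent.RegExch

section TorDim

variable {A : Type u} [CommRing A]

theorem torDimLE_of_flat {M : Type u} [AddCommGroup M] [Module A M] [Module.Flat A M] (n : ℕ) :
    DRing.HasTorDimLE A n M := fun N _ _ p hp => by
  obtain ⟨i, rfl⟩ : ∃ i, p = i + 1 := ⟨p - 1, by omega⟩
  exact ModuleCat.isZero_iff_subsingleton.1
    (TorBridge.isZero_tor_succ_of_flat (ModuleCat.of A M) (ModuleCat.of A N) i)

theorem torDimLE_mono {M : Type u} [AddCommGroup M] [Module A M] {m n : ℕ} (h : m ≤ n)
    (hM : DRing.HasTorDimLE A m M) : DRing.HasTorDimLE A n M :=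
  fun N _ _ p hp => hM N p (by omega)

theorem torDimLE_of_equiv {M M' : Type u} [AddCommGroup M] [Module A M] [AddCommGroup M'] [Module A M']
    (e : M ≃ₗ[A] M') {n : ℕ} (hM : DRing.HasTorDimLE A n M) : DRing.HasTorDimLE A n M' :=
  fun N _ _ p hp => ModuleCat.isZero_iff_subsingleton.1
    ((ModuleCat.isZero_iff_subsingleton.2 (hM N p hp)).of_iso
      (((CategoryTheory.Tor (ModuleCat.{u} A) p).mapIso e.symm.toModuleIso).app (ModuleCat.of A N)))

/-- Third term of a short exact sequence. -/
theorem torDimLE_third {X₁ X₂ X₃ : Type u} [AddCommGroup X₁] [Module A X₁] [AddCommGroup X₂]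
    [Module A X₂] [AddCommGroup X₃] [Module A X₃] (f : X₁ →ₗ[A] X₂) (g : X₂ →ₗ[A] X₃)
    (hf : Function.Injective f) (hex : Function.Exact f g) (hg : Function.Surjective g) {d : ℕ}
    (h₁ : DRing.HasTorDimLE A d X₁) (h₂ : DRing.HasTorDimLE A (d + 1) X₂) :
    DRing.HasTorDimLE A (d + 1) X₃ := fun N _ _ p hp => by
  obtain ⟨i, rfl⟩ : ∃ i, p = i + 1 := ⟨p - 1, by omega⟩
  let S : ShortComplex (ModuleCat.{u} A) := ShortComplex.mk (ModuleCat.ofHom f) (ModuleCat.ofHom g)
    (ModuleCat.hom_ext (LinearMap.ext fun x => hex.apply_apply_eq_zero x))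
  have hS : S.ShortExact :=
    { exact := (ShortComplex.ShortExact.moduleCat_exact_iff_function_exact S).2 hex
      mono_f := (ModuleCat.mono_iff_injective _).2 hf
      epi_g := (ModuleCat.epi_iff_surjective _).2 hg }
  exact ModuleCat.isZero_iff_subsingleton.1 (TorBridge.isZero_tor_third S hS (ModuleCat.of A N) i
    (ModuleCat.isZero_iff_subsingleton.2 (h₂ N (i + 1) hp))
    (ModuleCat.isZero_iff_subsingleton.2 (h₁ N i (by omega))))

theorem torDimLE_of_pdLE : ∀ (n : ℕ) (M : Type u) [AddCommGroup M] [Module A M] [Module.Finite A M]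
    [IsNoetherianRing A], PdLE A n M → DRing.HasTorDimLE A n M := by
  intro n
  induction n with
  | zero =>
    intro M _ _ _ _ h
    haveI : Module.Projective A M := pdLE_zero_iff.1 h
    exact torDimLE_of_flat 0
  | succ n ih =>
    intro M _ _ _ _ h
    obtain ⟨k, g, hg⟩ := exists_presentation (R := A) (M := M)
    haveI : Module.Finite A (LinearMap.ker g) := Module.Finite.iff_fg.2 (IsNoetherian.noetherian _)
    exact torDimLE_third (LinearMap.ker g).subtype g Subtype.val_injective
      (LinearMap.exact_subtype_ker_map g) hg (ih _ ((pdLE_succ_iff g hg).1 h))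
      (torDimLE_of_flat (n + 1))

variable {B : Type u} [CommRing B] [Algebra A B]

/-- Cutting by a weakly regular sequence raises the tor dimension by at most its length. -/
theorem torDimLE_quot_regular : ∀ (rs : List B) (M : Type u) [AddCommGroup M] [Module B M] [Module A M]
    [IsScalarTower A B M] (d : ℕ), IsWeaklyRegular M rs → DRing.HasTorDimLE A d M →
    DRing.HasTorDimLE A (d + rs.length) (M ⧸ (Ideal.ofList rs • ⊤ : Submodule B M)) := by
  intro rs
  induction rs with
  | nil =>
    intro M _ _ _ _ d _ hM
    exact torDimLE_of_equiv ((Submodule.quotEquivOfEqBot _ (by simp)).symm.restrictScalars A) hM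
  | cons r rs ih =>
    intro M _ _ _ _ d hr hM
    rw [isWeaklyRegular_cons_iff] at hr
    have h1 : DRing.HasTorDimLE A (d + 1) (QuotSMulTop r M) := by
      refine torDimLE_third ((LinearMap.lsmul B M r).restrictScalars A)
        ((Submodule.mkQ (r • ⊤ : Submodule B M)).restrictScalars A) hr.1 (fun x => ?_)
        (Submodule.mkQ_surjective _) hM (torDimLE_mono (Nat.le_succ d) hM)
      rw [LinearMap.restrictScalars_apply, Submodule.mkQ_apply, Submodule.Quotient.mk_eq_zero,
        Submodule.mem_smul_pointwise_iff_exists]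
      simp [Set.mem_range]
    have h2 := ih (QuotSMulTop r M) (d + 1) hr.2 h1
    refine torDimLE_mono (show d + 1 + rs.length ≤ d + (r :: rs).length by simp; omega) ?_
    exact torDimLE_of_equiv
      ((Submodule.quotOfListConsSMulTopEquivQuotSMulTopInner M r rs).symm.restrictScalars A) h2

end TorDim

section Fibre

variable {A B : Type u} [CommRing A] [CommRing B] [IsLocalRing A] [IsNoetherianRing A] [IsLocalRing B]
  [IsNoetherianRing B] [Algebra A B] [IsLocalHom (algebraMap A B)] [Module.Flat A B]
  [IsRegularLocalRing (B ⧸ (maximalIdeal A).map (algebraMap A B))]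

/-- A finite module whose tor against the residue field of the base vanishes in one degree has finite
projective dimension over the total ring. -/
theorem exists_pdLE_of_tor_residue {Q : ProjectiveResolution (ModuleCat.of A (A ⧸ maximalIdeal A))} :
    ∀ (d : ℕ) (M : Type u) [AddCommGroup M] [Module B M] [Module A M] [IsScalarTower A B M]
      [Module.Finite B M], TorExact M Q d → ∃ n, PdLE B n M := by
  intro d
  induction d with
  | zero =>
    intro M _ _ _ _ _ h
    have h1 : Function.Injective ((maximalIdeal A).subtype.rTensor M) := by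
      let q : (M →₀ A) →ₗ[A] M := Finsupp.linearCombination A id
      have hq : Function.Surjective q := fun m => ⟨Finsupp.single m 1, by simp [q]⟩
      have h0 := (TorBridge.isZero_tor_one_iff (A ⧸ maximalIdeal A) M q hq).1 ((torExact_iff M Q 0).1 h)
      have := (TorBridge.rTensor_injective_iff_lTensor_injective (maximalIdeal A).mkQ
        (Submodule.mkQ_surjective _) q hq).1 h0
      rw [Submodule.ker_mkQ] at this
      exact (LinearMap.lTensor_inj_iff_rTensor_inj M _).1 this
    haveI : Module.Flat A M := LocalCrit.flat_of_le_jacobson (B := B) (I := maximalIdeal A) (M := M)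
      ((IsLocalRing.map_maximalIdeal_le (algebraMap A B)).trans (maximalIdeal_le_jacobson ⊥)) h1
      (LocalCrit.keepsInjective_of_isMaximal (maximalIdeal A) M)
    haveI : Module.Finite (B ⧸ (maximalIdeal A).map (algebraMap A B)) (M ⧸ FlatLoc6.mN A B M) :=
      Module.Finite.of_restrictScalars_finite B _ _
    exact ⟨_, pdLE_of_fibre (A := A) _ M (pdLE_of_isRegularLocalRing _ _)⟩
  | succ d ih =>
    intro M _ _ _ _ _ h
    obtain ⟨k, g, hg⟩ := exists_presentation (R := B) (M := M)
    haveI : Module.Flat A (Fin k → B) := Module.Flat.trans A B _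
    haveI : Module.Finite B (LinearMap.ker g) := Module.Finite.iff_fg.2 (IsNoetherian.noetherian _)
    have h' : TorExact (A := A) ↥(LinearMap.ker g) Q d := torExact_ker (g.restrictScalars A) hg Q d h
    obtain ⟨n, hn⟩ := @ih ↥(LinearMap.ker g) _ _ _ _ _ h'
    exact ⟨n + 1, (pdLE_succ_iff g hg).2 hn⟩

theorem hasFiniteTorDim_of_tor_residue (M : Type u) [AddCommGroup M] [Module B M] [Module A M]
    [IsScalarTower A B M] [Module.Finite B M] (d : ℕ)
    (h : Subsingleton (DRing.Tor A (d + 1) M (A ⧸ maximalIdeal A))) : DRing.HasFiniteTorDim B M := by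
  obtain ⟨n, hn⟩ := exists_pdLE_of_tor_residue (A := A) (B := B) (Q := ProjectiveResolution.of _) d M
    ((torExact_iff M _ d).2 (ModuleCat.isZero_iff_subsingleton.2 h))
  exact ⟨n, torDimLE_of_pdLE n M hn⟩

end Fibre

section Descent

variable {R S : Type u} [CommRing R] [CommRing S] [Algebra R S]

theorem isWeaklyRegular_of_faithfullyFlat [Module.FaithfullyFlat R S] (ys : List R)
    (h : IsWeaklyRegular S (ys.map (algebraMap R S))) : IsWeaklyRegular R ys := by
  rw [isWeaklyRegular_iff] at h ⊢
  intro i hi
  have h' := h i (by simpa using hi)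
  rw [List.getElem_map, ← List.map_take] at h'
  refine fun a b hab => ?_
  obtain ⟨a, rfl⟩ := Submodule.Quotient.mk_surjective _ a
  obtain ⟨b, rfl⟩ := Submodule.Quotient.mk_surjective _ b
  simp only [← Submodule.Quotient.mk_smul, Submodule.Quotient.eq, smul_eq_mul, Ideal.mul_top] at hab
  rw [Submodule.Quotient.eq, smul_eq_mul, Ideal.mul_top,
    ← Ideal.comap_map_eq_self_of_faithfullyFlat (B := S) (Ideal.ofList (ys.take i)), Ideal.mem_comap]
  have hm := Ideal.mem_map_of_mem (algebraMap R S) hab
  rw [Ideal.map_ofList] at hm ⊢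
  rw [map_sub, map_mul, map_mul] at hm
  have := @h' (Submodule.Quotient.mk (algebraMap R S a)) (Submodule.Quotient.mk (algebraMap R S b)) (by
    simp only [← Submodule.Quotient.mk_smul, Submodule.Quotient.eq, smul_eq_mul, Ideal.mul_top]
    exact hm)
  rw [Submodule.Quotient.eq, smul_eq_mul, Ideal.mul_top] at this
  rwa [map_sub]

end Descent

end Groth.Agent.RegExch
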